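import Cfsg.Agent.Lib.SylowNumber.Action
import Cfsg.Agent.Lib.SylowNumber.Basic
import Cfsg.Agent.Lib.PCore.PSolvable
import Cfsg.Agent.Lib.BrauerArtin.Main
import Cfsg.Agent.Lib.PSL2.Basic
import Cfsg.Agent.Lib.StrongEmbedding.PSLTwo
import Cfsg.Agent.Lib.Small.Basic

/-!
# Fewer than `p ^ 2` Sylow `p`-subgroups

With fewer than `p ^ 2` Sylow `p`-subgroups and `O_p = 1` the Sylow subgroups have order at most
`p`. With Brauer's theorem this excludes simple groups with a prime power Sylow number.
-/

set_option autoImplicit false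
set_option linter.style.haveILetI false
set_option linter.unusedSectionVars false

namespace CfsgLib.SylowSquare

open Cfsg CfsgLib.SylowNumber MulAction

universe u

variable {G : Type u} [Group G] [Finite G] {p : ℕ} [hp : Fact p.Prime]

/-- Two different Sylow subgroups meet in a subgroup of index `p`. -/
theorem adjacent (hn : Nat.card (Sylow p G) < p ^ 2) {P Q : Sylow p G} (h : P ≠ Q) :
    Adjacent P Q := by
  rw [adjacent_iff_card_orbit]
  obtain ⟨j, hj⟩ := exists_card_orbit_eq_pow P Q
  have h1 : Nat.card (orbit (P : Subgroup G) Q) ≤ Nat.card (Sylow p G) :=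
    Nat.card_le_card_of_injective _ Subtype.val_injective
  have h2 : j < 2 := (Nat.pow_lt_pow_iff_right hp.out.one_lt).1 ((hj ▸ h1).trans_lt hn)
  have h3 : j ≠ 0 := fun e => card_orbit_ne_one h (by rw [hj, e, pow_zero])
  rw [hj, show j = 1 by omega, pow_one]

/-- A line has at least `p + 1` members. -/
theorem succ_le_card_line [Fintype (Sylow p G)] {P Q : Sylow p G} (hPQ : Adjacent P Q)
    [DecidablePred fun S : Sylow p G => (P : Subgroup G) ⊓ Q ≤ S] :
    p + 1 ≤ (Finset.univ.filter fun S : Sylow p G => (P : Subgroup G) ⊓ Q ≤ S).card := by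
  classical
  have hsub : insert P (orbitFinset (P : Subgroup G) Q) ⊆
      Finset.univ.filter fun S : Sylow p G => (P : Subgroup G) ⊓ Q ≤ S := by
    intro S hS
    rw [Finset.mem_filter]
    refine ⟨Finset.mem_univ _, ?_⟩
    rcases Finset.mem_insert.1 hS with rfl | hS
    · exact inf_le_left
    · obtain ⟨⟨u, hu⟩, rfl⟩ := mem_orbitFinset.1 hS
      exact hPQ.le_smul hu inf_le_right
  refine le_trans ?_ (Finset.card_le_card hsub)
  rw [Finset.card_insert_of_notMem, card_orbitFinset, adjacent_iff_card_orbit.1 hPQ]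
  intro hP
  obtain ⟨⟨u, hu⟩, hPu⟩ := mem_orbitFinset.1 hP
  refine hPQ.ne ?_
  have h2 : u⁻¹ • (u • Q) = u⁻¹ • P := congrArg _ hPu
  rw [inv_smul_smul] at h2
  rw [h2, Sylow.smul_eq_iff_mem_normalizer.2 (Subgroup.le_normalizer (inv_mem hu))]

/-- A subgroup contained in all the Sylow subgroups lies in `O_p`. -/
theorem le_pCore_of_forall (D : Subgroup G) (h : ∀ S : Sylow p G, D ≤ S) : D ≤ pCore p G := by
  have hn : (⨅ S : Sylow p G, (S : Subgroup G)).Normal := by
    refine ⟨fun x hx g => ?_⟩
    rw [Subgroup.mem_iInf] at hx ⊢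
    intro S
    have h1 : x ∈ ((g⁻¹ • S : Sylow p G) : Subgroup G) := hx _
    rw [Sylow.coe_subgroup_smul, Subgroup.mem_pointwise_smul_iff_inv_smul_mem, ← map_inv,
      inv_inv, MulAut.smul_def, MulAut.conj_apply] at h1
    exact h1
  obtain ⟨S₀⟩ := (inferInstance : Nonempty (Sylow p G))
  exact (le_iInf h).trans (CfsgLib.PCore.le_pCore hn (S₀.2.to_le (iInf_le _ _)))

/-- With fewer than `p ^ 2` Sylow subgroups and `O_p = 1`, Sylow subgroups have order `p`. -/
theorem card_eq_prime (hn : Nat.card (Sylow p G) < p ^ 2) (h0 : pCore p G = ⊥)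
    (h1 : Nat.card (Sylow p G) ≠ 1) (P : Sylow p G) : Nat.card P = p := by
  classical
  haveI := Fintype.ofFinite (Sylow p G)
  obtain ⟨Q, hQ⟩ : ∃ Q : Sylow p G, Q ≠ P := by
    by_contra hall
    push Not at hall
    exact h1 (Nat.card_eq_one_iff_unique.2 ⟨⟨fun a b => (hall a).trans (hall b).symm⟩, ⟨P⟩⟩)
  have hPQ := adjacent hn hQ.symm
  set D := (P : Subgroup G) ⊓ Q with hD
  by_cases hD1 : D = ⊥
  · have h := hPQ
    rw [Adjacent, ← hD, hD1, Subgroup.card_bot, mul_one] at h
    exact h.symm
  exfalso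
  obtain ⟨R, hR⟩ : ∃ R : Sylow p G, ¬ D ≤ R := by
    by_contra hall
    push Not at hall
    exact hD1 (le_bot_iff.1 (h0 ▸ le_pCore_of_forall D hall))
  set L := Finset.univ.filter fun S : Sylow p G => D ≤ S with hL
  set M : Sylow p G → Finset (Sylow p G) := fun S =>
    (Finset.univ.filter fun T : Sylow p G => (R : Subgroup G) ⊓ S ≤ T).erase R with hM
  have hRS : ∀ S ∈ L, R ≠ S := fun S hS e => hR (e ▸ (Finset.mem_filter.1 hS).2)
  have hdisj : (L : Set (Sylow p G)).PairwiseDisjoint M := by
    intro S hS S' hS' hne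
    rw [Function.onFun, Finset.disjoint_left]
    intro T hT hT'
    rw [hM, Finset.mem_erase, Finset.mem_filter] at hT hT'
    have e1 := (adjacent_of_le (adjacent hn (hRS S hS)) inf_le_left hT.2.2 hT.1.symm).2
    have e2 := (adjacent_of_le (adjacent hn (hRS S' hS')) inf_le_left hT'.2.2 hT'.1.symm).2
    have hSS' := (adjacent_of_le hPQ (Finset.mem_filter.1 hS).2 (Finset.mem_filter.1 hS').2 hne).2
    have hle : (R : Subgroup G) ⊓ S ≤ D := by
      rw [hD, ← hSS']
      refine le_inf inf_le_right ?_
      rw [← e1, e2]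
      exact inf_le_right
    have h3 := Nat.eq_of_mul_eq_mul_left hp.out.pos
      (Eq.trans (adjacent hn (hRS S hS)) (Eq.trans (card_sylow_subgroup_eq R P) (Eq.symm hPQ)))
    exact hR (Subgroup.eq_of_le_of_card_ge hle h3.ge ▸ inf_le_left)
  have hMc : ∀ S ∈ L, p ≤ (M S).card := by
    intro S hS
    simp only [hM]
    have hmem : R ∈ Finset.univ.filter fun T : Sylow p G => (R : Subgroup G) ⊓ S ≤ T :=
      Finset.mem_filter.2 ⟨Finset.mem_univ _, inf_le_left⟩
    rw [Finset.card_erase_of_mem hmem]
    have := succ_le_card_line (adjacent hn (hRS S hS))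
    omega
  have hsub : L.biUnion M ⊆ Finset.univ.erase R := by
    intro T hT
    obtain ⟨S, -, hT⟩ := Finset.mem_biUnion.1 hT
    exact Finset.mem_erase.2 ⟨(Finset.mem_erase.1 hT).1, Finset.mem_univ _⟩
  have hc := Finset.card_le_card hsub
  rw [Finset.card_biUnion hdisj, Finset.card_erase_of_mem (Finset.mem_univ _), Finset.card_univ,
    ← Nat.card_eq_fintype_card] at hc
  have hlow : (p + 1) * p ≤ ∑ S ∈ L, (M S).card :=
    le_trans (Nat.mul_le_mul_right p (succ_le_card_line hPQ))
      (by simpa [mul_comm] using L.card_nsmul_le_sum _ p hMc)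
  rw [sq] at hn
  rw [add_mul, one_mul] at hlow
  omega

theorem modEq_one_cases {m : ℕ} (h : m ≡ 1 [MOD p]) (hm : 0 < m) : m = 1 ∨ p + 1 ≤ m := by
  obtain ⟨k, hk⟩ := (Nat.modEq_iff_dvd' hm).1 h.symm
  rcases Nat.eq_zero_or_pos k with rfl | hk0
  · left; omega
  · right
    have : p * 1 ≤ p * k := Nat.mul_le_mul_left _ hk0
    omega

theorem lt_sq_of_two {a b : ℕ} (ha : p + 1 ≤ a) (hb : p + 1 ≤ b) : p ^ 2 < a * b :=
  lt_of_lt_of_le (by rw [sq]; nlinarith [hp.out.pos]) (Nat.mul_le_mul ha hb)

/-- A prime power `1 + k p < p ^ 2` has no representation. -/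
theorem not_rep {q a k : ℕ} (hq : q.Prime) (hk : 1 + k * p = q ^ a) (hlt : 1 + k * p < p ^ 2) :
    ¬ CfsgLib.BrauerArtin.Rep p k := by
  rintro ⟨h, u, hh, hu, heq⟩
  have hkp : k < p := by
    by_contra hge
    have : p * p ≤ k * p := Nat.mul_le_mul_right p (not_lt.1 hge)
    rw [sq] at hlt; omega
  have hh1 : h = 1 := by
    by_contra hne
    have h2 : k * (u + 1) < p * (u + 1) := Nat.mul_lt_mul_of_pos_right hkp (by omega)
    have h3 : 2 * u * p ≤ h * u * p :=
      Nat.mul_le_mul_right p (Nat.mul_le_mul_right u (by omega))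
    have h4 : p * 1 ≤ p * u := Nat.mul_le_mul_left p hu
    nlinarith
  subst hh1
  obtain ⟨d, hd⟩ : ∃ d, d = u + 1 := ⟨u + 1, rfl⟩
  rw [← hd] at heq
  have hdvd : d ∣ p - 1 := by
    have h1 : (k : ℤ) * d = u * p + u ^ 2 + u + 1 := by
      rw [hd]; exact_mod_cast (by rw [hd] at heq; simpa using heq)
    have h2 : (d : ℤ) ∣ ((p - 1 : ℕ) : ℤ) := by
      refine ⟨(p : ℤ) + u - k, ?_⟩
      rw [Nat.cast_sub hp.out.one_le, hd]
      push_cast at h1 ⊢
      rw [hd] at h1
      push_cast at h1
      linear_combination h1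
    exact_mod_cast h2
  obtain ⟨e, he⟩ := hdvd
  have hp2 := hp.out.two_le
  have he0 : 1 ≤ e := Nat.pos_of_ne_zero fun h0 => by rw [h0, mul_zero] at he; omega
  have hde : d + e ≤ d * e + 1 := by
    obtain ⟨e', rfl⟩ : ∃ e', e = e' + 1 := ⟨e - 1, by omega⟩
    nlinarith
  obtain ⟨r, hr⟩ : ∃ r, p = r + e := ⟨p - e, by omega⟩
  have hr2 : 2 ≤ r := by
    have : 2 * e ≤ d * e := Nat.mul_le_mul_right e (by omega)
    omega
  -- `q ^ a = (p + d) (p - e)`
  have hprod : q ^ a = (p + d) * r := by
    apply Nat.eq_of_mul_eq_mul_left (show 0 < d by omega)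
    have e1 : d * q ^ a = d + d * k * p := by rw [← hk]; ring
    have e2 : d * k = u * p + u ^ 2 + u + 1 := by rw [mul_comm]; simpa using heq
    have e3 : d * r = u * p + 1 := by
      have : d * p = d * r + d * e := by rw [hr]; ring
      have : d * p = u * p + p := by rw [hd]; ring
      omega
    rw [e1, e2, mul_comm (p + d), ← mul_assoc, e3, hd]; ring
  obtain ⟨i, -, hi⟩ := (Nat.dvd_prime_pow hq).1 (show r ∣ q ^ a from hprod ▸ dvd_mul_left r _)
  obtain ⟨j, -, hj⟩ := (Nat.dvd_prime_pow hq).1 (show p + d ∣ q ^ a from hprod ▸ dvd_mul_right _ _)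
  have hij : i ≤ j := (Nat.pow_le_pow_iff_right hq.one_lt).1 (by rw [← hi, ← hj]; omega)
  have hdv : r ∣ d + e := by
    have h1 : r ∣ p + d := by rw [hi, hj]; exact pow_dvd_pow q hij
    rw [hr, add_assoc, add_comm e d] at h1
    exact (Nat.dvd_add_right dvd_rfl).1 h1
  obtain ⟨m, hm⟩ := hdv
  -- `r = d e + 1 - e` divides `d + e`
  rcases Nat.lt_or_ge m 2 with hm2 | hm2
  · interval_cases m
    · omega
    · rw [mul_one] at hm
      rcases Nat.lt_or_ge d 3 with hd3 | hd3
      · have : d = 2 := by omega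
        subst this; omega
      · rcases Nat.lt_or_ge d 4 with hd4 | hd4
        · have : d = 3 := by omega
          rw [this] at hm he
          have : e = 2 := by omega
          have : q ^ j = 10 := by omega
          have h2 : 2 ∣ q ^ j := by omega
          have h5 : 5 ∣ q ^ j := by omega
          have := (Nat.prime_dvd_prime_iff_eq Nat.prime_two hq).1 (Nat.prime_two.dvd_of_dvd_pow h2)
          have := (Nat.prime_dvd_prime_iff_eq (by norm_num) hq).1
            (Nat.Prime.dvd_of_dvd_pow (by norm_num : Nat.Prime 5) h5)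
          omega
        · rcases Nat.lt_or_ge e 2 with he2 | he2
          · have : e = 1 := by omega
            subst this; omega
          · have hpe : p = d * e + 1 := by omega
            have h4 : 4 * e ≤ d * e := Nat.mul_le_mul_right e hd4
            have h5 : d * 2 ≤ d * e := Nat.mul_le_mul_left d he2
            omega
  · have h1 : r * 2 ≤ r * m := Nat.mul_le_mul_left r hm2
    rcases Nat.lt_or_ge d 3 with hd3 | hd3
    · have : d = 2 := by omega
      subst this; omega
    · have h3 : 3 * e ≤ d * e := Nat.mul_le_mul_right e hd3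
      have h4 : d * 1 ≤ d * e := Nat.mul_le_mul_left d he0
      omega

/-- A nonabelian simple group has no prime power number of Sylow subgroups below `p ^ 2`, outside
the Mersenne case. -/
theorem simple_false (hp' : ¬ (3 < p ∧ ∃ k : ℕ, p + 1 = 2 ^ k)) [IsSimpleGroup G]
    (hnc : ¬ IsMulCommutative G) (hdvd : p ∣ Nat.card G) (hn : Nat.card (Sylow p G) < p ^ 2)
    {q a : ℕ} (hq : q.Prime) (hqa : Nat.card (Sylow p G) = q ^ a) : False := by
  haveI : Fintype G := Fintype.ofFinite G
  have hone := CfsgLib.Small.one_lt_card_sylow (p := p) hnc hdvd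
  obtain ⟨P⟩ := (inferInstance : Nonempty (Sylow p G))
  have hperf : commutator G = ⊤ := by
    refine (IsSimpleGroup.eq_bot_or_eq_top_of_normal _
      (by rw [commutator_def]; infer_instance)).resolve_left fun e => hnc ?_
    refine ⟨⟨fun x y => commutatorElement_eq_one_iff_mul_comm.1 ?_⟩⟩
    rw [← Subgroup.mem_bot, ← e, commutator_def]
    exact Subgroup.commutator_mem_commutator (Subgroup.mem_top x) (Subgroup.mem_top y)
  have h0 : pCore p G = ⊥ := by
    refine (IsSimpleGroup.eq_bot_or_eq_top_of_normal _ (pCore_normal p G)).resolve_right fun e => ?_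
    exact CfsgLib.Small.sylow_ne_top hnc P (top_le_iff.1 (e ▸ CfsgLib.PCore.pCore_le_sylow P))
  have h0' : pPrimeCore p G = ⊥ := by
    refine (IsSimpleGroup.eq_bot_or_eq_top_of_normal _ (pPrimeCore_normal p G)).resolve_right
      fun e => ?_
    have h := CfsgLib.PCore.not_dvd_card_pPrimeCore (p := p) (G := G)
    rw [e, Subgroup.card_top] at h
    exact h hdvd
  obtain ⟨k, hk⟩ := (Nat.modEq_iff_dvd' (Nat.card_pos : 0 < Nat.card (Sylow p G))).1
    (card_sylow_modEq_one p G).symm
  have hk' : Nat.card (Sylow p G) = 1 + k * p := by rw [mul_comm]; omega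
  have hnr := not_rep hq (hk'.symm.trans hqa) (hk' ▸ hn)
  have hnd : q ^ a ∣ Nat.card G := hqa ▸ P.card_dvd_index.trans (Subgroup.index_dvd_card _)
  have hmod : q ^ a ≡ 1 [MOD p] := hqa ▸ card_sylow_modEq_one p G
  have hge : p + 1 ≤ q ^ a :=
    (modEq_one_cases hmod (pow_pos hq.pos a)).resolve_left (by omega)
  have hqp : (q ^ a).Coprime p := by
    rw [← hqa, Nat.coprime_comm, hp.out.coprime_iff_not_dvd]
    exact not_dvd_card_sylow (p := p) (G := G)
  have hsplit : ∀ {A B : ℕ}, q ^ a ∣ A * B → ¬ q ∣ A → q ^ a ∣ B := fun hd hA =>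
    ((hq.coprime_iff_not_dvd.2 hA).pow_left a).dvd_of_dvd_mul_left hd
  rcases CfsgLib.BrauerArtin.main hperf P (card_eq_prime hn h0 (by omega) P) hk' with
    ⟨F, iF, iT, hF, h3, ⟨e⟩⟩ | ⟨m, F, iF, iT, hF, hpm, h3, ⟨e⟩⟩ | h
  · -- `PSL(2, p)`
    have hG := Nat.card_congr
      ((QuotientGroup.quotientBot.symm.trans
        (QuotientGroup.quotientMulEquivOfEq h0'.symm)).trans e).toEquiv
    have hc := CfsgLib.PSL2.card_psl (F := F)
    rw [← hG, hF] at hc
    have hd : q ^ a ∣ p * ((p - 1) * (p + 1)) := by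
      refine hnd.trans (Dvd.intro_left (Nat.gcd 2 (p - 1)) ?_)
      rw [hc]; ring
    have hd := hqp.dvd_of_dvd_mul_left hd
    by_cases hq2 : q = 2
    · subst hq2
      obtain ⟨i, hi⟩ : Odd p := hp.out.odd_of_ne_two (by omega)
      have hle : 2 ^ a ≤ 2 * (p + 1) := by
        rcases Nat.even_or_odd i with ⟨t, ht⟩ | ⟨t, ht⟩
        · have : 2 ^ a ∣ (p - 1) * 2 := by
            refine hsplit (A := 2 * t + 1) ?_ (by omega)
            convert hd using 1
            rw [show p - 1 = 4 * t by omega, show p + 1 = 2 * (2 * t + 1) by omega]; ring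
          have := Nat.le_of_dvd (by omega) this
          omega
        · have : 2 ^ a ∣ 2 * (p + 1) := by
            refine hsplit (A := 2 * t + 1) ?_ (by omega)
            convert hd using 1
            rw [show p - 1 = 2 * (2 * t + 1) by omega]; ring
          exact Nat.le_of_dvd (by omega) this
      have h2 : 2 ∣ 2 ^ a := dvd_pow_self 2 fun h => by rw [h] at hge; omega
      rcases Nat.lt_or_ge k 2 with hk2 | hk2
      · interval_cases k
        · omega
        · exact hp' ⟨h3, a, by omega⟩
      · rcases Nat.lt_or_ge k 3 with hk3 | hk3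
        · interval_cases k; omega
        · have : 3 * p ≤ k * p := Nat.mul_le_mul_right p hk3
          omega
    · have hdiv : q ^ a ∣ p - 1 ∨ q ^ a ∣ p + 1 := by
        by_cases hqA : q ∣ p - 1
        · left
          refine hsplit (A := p + 1) (by rwa [mul_comm]) fun hB => ?_
          have h2 : q ∣ 2 := by
            have := Nat.dvd_sub hB hqA
            rwa [show p + 1 - (p - 1) = 2 by omega] at this
          exact hq2 ((Nat.prime_dvd_prime_iff_eq hq Nat.prime_two).1 h2)
        · exact Or.inr (hsplit hd hqA)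
      rcases hdiv with h1 | h1 <;> have h2 := Nat.le_of_dvd (by omega) h1
      · omega
      · have heq : q ^ a = p + 1 := le_antisymm h2 hge
        obtain ⟨i, hi⟩ : Odd p := hp.out.odd_of_ne_two (by omega)
        obtain ⟨j, hj⟩ : Odd (q ^ a) := (hq.odd_of_ne_two hq2).pow
        omega
  · -- `SL(2, 2 ^ m)`
    have hG := Nat.card_congr
      ((QuotientGroup.quotientBot.symm.trans
        (QuotientGroup.quotientMulEquivOfEq h0'.symm)).trans e).toEquiv
    classical
    have hc := CfsgLib.StrongEmbedding.PSLTwo.card_sl_two (F := F)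
    rw [← hG, hF, ← hpm] at hc
    have hd := hqp.dvd_of_dvd_mul_left (hc ▸ hnd)
    by_cases hq2 : q = 2
    · subst hq2
      have h1 : 2 ^ a ∣ 2 ^ m := by
        refine hsplit (A := 2 ^ m - 1) (by rwa [mul_comm]) ?_
        rcases Nat.eq_zero_or_pos m with e0 | e0
        · rw [e0] at hpm; omega
        · have : 2 ∣ 2 ^ m := dvd_pow_self 2 (by omega)
          omega
      have := Nat.le_of_dvd (pow_pos two_pos m) h1
      omega
    · have h1 : q ^ a ∣ 2 ^ m - 1 := hsplit hd fun h =>
        hq2 ((Nat.prime_dvd_prime_iff_eq hq Nat.prime_two).1 (hq.dvd_of_dvd_pow h))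
      have := Nat.le_of_dvd (by omega) h1
      omega
  · exact hnr h

/-- A prime power Sylow number below `p ^ 2` forces `p`-solvability, outside the Mersenne case. -/
theorem isPSolvable_of_primePow (hp' : ¬ (3 < p ∧ ∃ k : ℕ, p + 1 = 2 ^ k)) :
    ∀ (n : ℕ) (G : Type u) [Group G] [Finite G], Nat.card G ≤ n → Nat.card (Sylow p G) < p ^ 2 →
      ∀ q a : ℕ, q.Prime → Nat.card (Sylow p G) = q ^ a → IsPSolvable p G := by
  intro n
  induction n with
  | zero => intro G _ _ h; exact absurd h (Nat.not_le.2 Nat.card_pos)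
  | succ n ih =>
    intro G _ _ hG hn q a hq hqa
    classical
    by_cases hex : ∃ K : Subgroup G, K.Normal ∧ K ≠ ⊥ ∧ K ≠ ⊤
    · obtain ⟨K, hK, hK0, hK1⟩ := hex
      obtain ⟨P⟩ := (inferInstance : Nonempty (Sylow p G))
      have hmul := card_sylow_eq_mul P K
      have h1 : Nat.card (Sylow p (G ⧸ K)) ∣ q ^ a :=
        hqa ▸ hmul ▸ dvd_mul_of_dvd_left (dvd_mul_right _ _) _
      have h2 : Nat.card (Sylow p K) ∣ q ^ a :=
        hqa ▸ hmul ▸ dvd_mul_of_dvd_left (dvd_mul_left _ _) _
      obtain ⟨i, -, hi⟩ := (Nat.dvd_prime_pow hq).1 h1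
      obtain ⟨j, -, hj⟩ := (Nat.dvd_prime_pow hq).1 h2
      have hpos := pow_pos hq.pos a
      have hc := Subgroup.card_mul_index K
      have hi2 : 2 ≤ K.index := by
        have h3 : K.index ≠ 0 := Subgroup.index_ne_zero_of_finite
        have h4 : K.index ≠ 1 := fun h => hK1 (Subgroup.index_eq_one.1 h)
        omega
      have hk2 : 2 ≤ Nat.card K := by
        have h3 : 0 < Nat.card K := Nat.card_pos
        have h4 : Nat.card K ≠ 1 := fun h => hK0 (Subgroup.card_eq_one.1 h)
        omega
      have e1 := Nat.mul_le_mul_left (Nat.card K) hi2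
      have e2 := Nat.mul_le_mul_right K.index hk2
      refine CfsgLib.PCore.isPSolvable_extension K
        (ih K (by omega) ((Nat.le_of_dvd hpos h2).trans_lt (hqa ▸ hn)) q j hq hj)
        (ih (G ⧸ K) ?_ ((Nat.le_of_dvd hpos h1).trans_lt (hqa ▸ hn)) q i hq hi)
      rw [← Subgroup.index_eq_card]
      omega
    · push Not at hex
      rcases subsingleton_or_nontrivial G with hs | hs
      · exact CfsgLib.PCore.isPSolvable_of_coprime (by rw [Nat.card_unique]; exact Nat.coprime_one_left p)
      haveI : IsSimpleGroup G := ⟨fun H hH => or_iff_not_imp_left.2 (hex H hH)⟩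
      by_cases hnc : IsMulCommutative G
      · haveI := hnc
        haveI : Group.IsSolvable G := Group.isSolvable_of_comm fun x y => mul_comm' x y
        exact CfsgLib.PCore.isPSolvable_of_isSolvable
      by_cases hdvd : p ∣ Nat.card G
      · exact (simple_false hp' hnc hdvd hn hq hqa).elim
      · exact CfsgLib.PCore.isPSolvable_of_coprime (CfsgLib.PCore.coprime_of_not_dvd_card hdvd)

/-- A simple `p`-solvable group has one Sylow subgroup. -/
theorem card_sylow_of_simple [IsSimpleGroup G] (h : IsPSolvable p G) :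
    Nat.card (Sylow p G) = 1 := by
  obtain ⟨P⟩ := (inferInstance : Nonempty (Sylow p G))
  rw [P.card_eq_index_normalizer, Subgroup.index_eq_one]
  haveI : (P : Subgroup G).Normal := by
    rcases CfsgLib.PCore.pCore_ne_bot_or_pPrimeCore_ne_bot h with h1 | h1
    · have h2 := (IsSimpleGroup.eq_bot_or_eq_top_of_normal _ (pCore_normal p G)).resolve_left h1
      have h3 := CfsgLib.PCore.pCore_le_sylow (p := p) P
      rw [h2, top_le_iff] at h3
      rw [h3]
      infer_instance
    · have h2 := (IsSimpleGroup.eq_bot_or_eq_top_of_normal _ (pPrimeCore_normal p G)).resolve_left h1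
      have h3 := CfsgLib.PCore.not_dvd_card_pPrimeCore (p := p) (G := G)
      rw [h2, Subgroup.card_top] at h3
      have : (P : Subgroup G) = ⊥ := by
        obtain ⟨m, hm⟩ := IsPGroup.iff_card.1 P.2
        rw [← Subgroup.card_eq_one, hm]
        rcases Nat.eq_zero_or_pos m with e | e
        · rw [e, pow_zero]
        · exact absurd ((dvd_pow_self p e.ne').trans (hm ▸ Subgroup.card_subgroup_dvd_card _)) h3
      rw [this]
      infer_instance
  exact Subgroup.normalizer_eq_top_iff.2 inferInstance

/-- The Sylow number of a `p`-solvable group below `p ^ 2` is a prime power. -/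
theorem primePow_of_isPSolvable :
    ∀ (n : ℕ) (G : Type u) [Group G] [Finite G], Nat.card G ≤ n → IsPSolvable p G →
      Nat.card (Sylow p G) < p ^ 2 → ∃ q k : ℕ, q.Prime ∧ Nat.card (Sylow p G) = q ^ k := by
  intro n
  induction n with
  | zero => intro G _ _ h; exact absurd h (Nat.not_le.2 Nat.card_pos)
  | succ n ih =>
    intro G _ _ hG hs hn
    classical
    obtain ⟨P⟩ := (inferInstance : Nonempty (Sylow p G))
    by_cases hex : ∃ K : Subgroup G, K.Normal ∧ K ≠ ⊥ ∧ K ≠ ⊤
    · obtain ⟨K, hK, hK0, hK1⟩ := hex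
      have hc := Subgroup.card_mul_index K
      have hi2 : 2 ≤ K.index := by
        have h3 : K.index ≠ 0 := Subgroup.index_ne_zero_of_finite
        have h4 : K.index ≠ 1 := fun h => hK1 (Subgroup.index_eq_one.1 h)
        omega
      have hk2 : 2 ≤ Nat.card K := by
        have h3 : 0 < Nat.card K := Nat.card_pos
        have h4 : Nat.card K ≠ 1 := fun h => hK0 (Subgroup.card_eq_one.1 h)
        omega
      have e1 := Nat.mul_le_mul_left (Nat.card K) hi2
      have e2 := Nat.mul_le_mul_right K.index hk2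
      have hmul := card_sylow_eq_mul P K
      set A := Nat.card (Sylow p (G ⧸ K))
      set B := Nat.card (Sylow p K)
      set T := Nat.card (Sylow p ↥(((P : Subgroup G) ⊔ K) ⊓
        Subgroup.normalizer (((P : Subgroup G) ⊓ K : Subgroup G) : Set G))) with hT
      have hA0 : 0 < A := Nat.card_pos
      have hB0 : 0 < B := Nat.card_pos
      have hT0 : 0 < T := Nat.card_pos
      have hbig : ∀ x y : ℕ, x * y ∣ A * B * T → p + 1 ≤ x → p + 1 ≤ y → False := fun x y hd hx hy => by
        have h1 := Nat.le_of_dvd (by positivity) hd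
        have h2 := lt_sq_of_two (p := p) hx hy
        rw [hmul] at hn
        omega
      have hAle : A ≤ Nat.card (Sylow p G) := by
        rw [hmul, mul_assoc]; exact Nat.le_mul_of_pos_right A (Nat.mul_pos hB0 hT0)
      have hBle : B ≤ Nat.card (Sylow p G) := by
        rw [hmul, mul_comm A B, mul_assoc]; exact Nat.le_mul_of_pos_right B (Nat.mul_pos hA0 hT0)
      rcases modEq_one_cases (card_sylow_modEq_one p (G ⧸ K)) hA0 with hA | hA
      · rcases modEq_one_cases (card_sylow_modEq_one p K) hB0 with hB | hB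
        · -- every prime power part of `T` is congruent to one
          change A = 1 at hA
          change B = 1 at hB
          rw [hA, hB, one_mul, one_mul] at hmul
          rw [hmul]
          rcases eq_or_ne T 1 with hT1 | hT1
          · exact ⟨2, 0, Nat.prime_two, hT1⟩
          set ℓ := T.minFac
          have hℓ : ℓ.Prime := Nat.minFac_prime hT1
          refine ⟨ℓ, T.factorization ℓ, hℓ, ?_⟩
          have hsplit := Nat.ordProj_mul_ordCompl_eq_self T ℓ
          have h1 : p + 1 ≤ ℓ ^ T.factorization ℓ := by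
            refine (modEq_one_cases (factor_modEq_one P K ℓ hℓ) (pow_pos hℓ.pos _)).resolve_left
              fun e => ?_
            rw [← hT] at e
            have := (Nat.pow_eq_one.1 e).resolve_left hℓ.ne_one
            exact (hℓ.factorization_pos_of_dvd hT0.ne' (Nat.minFac_dvd T)).ne' this
          have hmodC : T / ℓ ^ T.factorization ℓ ≡ 1 [MOD p] := by
            have h2 : T ≡ 1 [MOD p] := card_sylow_modEq_one p _
            have h3 := (factor_modEq_one P K ℓ hℓ).mul_right (T / ℓ ^ T.factorization ℓ)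
            rw [← hT, hsplit, one_mul] at h3
            exact h3.symm.trans h2
          rcases modEq_one_cases hmodC (Nat.ordCompl_pos ℓ hT0.ne') with hC | hC
          · conv_lhs => rw [← hsplit, hC, mul_one]
          · refine (hbig _ _ ?_ h1 hC).elim
            rw [hsplit]; exact dvd_mul_left _ _
        · have h1 : A * T = 1 := by
            rcases modEq_one_cases (p := p) (m := A * T)
              ((card_sylow_modEq_one p (G ⧸ K)).mul (card_sylow_modEq_one p _))
              (Nat.mul_pos hA0 hT0) with e | e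
            · exact e
            · exact (hbig B (A * T) ⟨1, by ring⟩ hB e).elim
          obtain ⟨q, k, hq, hqk⟩ := ih K (by omega) (CfsgLib.PCore.isPSolvable_subgroup hs K)
            (hBle.trans_lt hn)
          refine ⟨q, k, hq, ?_⟩
          rw [hmul, ← hqk]
          calc A * B * T = B * (A * T) := by ring
            _ = B := by rw [h1, mul_one]
      · have h1 : B * T = 1 := by
          rcases modEq_one_cases (p := p) (m := B * T)
            ((card_sylow_modEq_one p K).mul (card_sylow_modEq_one p _))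
            (Nat.mul_pos hB0 hT0) with e | e
          · exact e
          · exact (hbig A (B * T) (by rw [mul_assoc]) hA e).elim
        obtain ⟨q, k, hq, hqk⟩ := ih (G ⧸ K) (by rw [← Subgroup.index_eq_card]; omega)
          (CfsgLib.PCore.isPSolvable_quotient hs K) (hAle.trans_lt hn)
        exact ⟨q, k, hq, by rw [hmul, ← hqk, mul_assoc, h1, mul_one]⟩
    · push Not at hex
      refine ⟨2, 0, Nat.prime_two, ?_⟩
      rcases subsingleton_or_nontrivial G with h | h
      · haveI : Subsingleton (Sylow p G) := ⟨fun a b => Sylow.ext (Subsingleton.elim _ _)⟩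
        rw [Nat.card_unique, pow_zero]
      · haveI : IsSimpleGroup G := ⟨fun H hH => or_iff_not_imp_left.2 (hex H hH)⟩
        exact card_sylow_of_simple hs

end CfsgLib.SylowSquare
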